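import Cfsg.Agent.Lib.Recog.SporBound.Sound
import Cfsg.Agent.Lib.Recog.SporBound.SpSixLow.Tree0

set_option autoImplicit false
set_option maxRecDepth 20000

/-! Generated closure certificate: S3342 model, <abcd> over <> (owner: helper24). -/

namespace CfsgLib.Recog.SporBound.SpSixLow
open CfsgLib.Recog.SporBound

noncomputable def factTree : Q (ℕ) := (.node ft6 ft12 ft18 ft24)
noncomputable def nodeTree : Q (ℕ) := ct11
noncomputable def stepTree : Q (List ℕ) := (.node st6 st12 st18 st24)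
noncomputable def finalTree : Q (List ℕ) := (.node (.node et6 et12 et18 et24) (.node et30 et36 et42 et48) (.node et54 et60 et66 et72) (.node et78 et84 et90 et96))

/-- The certificate. -/
noncomputable def cert : Cert where
  n := 1296
  nd := 1295
  nf := 2592
  kl := [0, 1, 2, 3]
  facts := factTree
  cn := nodeTree
  steps := stepTree
  finals := finalTree
  rels := [[0, 0], [1, 1], [2, 2], [3, 3], [0, 1, 0, 1, 0, 1], [2, 3, 2, 3, 2, 3], [0, 1, 2, 0, 1, 2, 1, 0, 2, 1, 0, 2], [0, 1, 2, 0, 2, 1, 0, 2, 0, 2], [0, 2, 0, 2, 0, 2, 0, 2], [2, 3, 2, 0, 1, 2, 3, 2, 3, 2, 1, 0, 2, 3], [2, 3, 2, 0, 2, 3, 2, 3, 2, 0, 2, 3], [3, 0, 1, 3, 1, 0], [3, 0, 3, 0], [0, 1, 3, 1, 0, 3]]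
  subs := []

/-- Chains of the traced words. -/
noncomputable def closers : List ℕ := []

end CfsgLib.Recog.SporBound.SpSixLow
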